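import Cfsg.Agent.BMod.Mat

/-!
Blocks with one point and `k(B) = p ^ d`: the centre is a Frobenius algebra, the Brauer map at a
defect group is injective on it (`OnePt.eq_zero_of_br`), so an abelian defect group forces a
nilpotent block (`nil_of_card_eq`).  Blocks with all degrees equal (`rank_one_of_deg`).
-/

set_option linter.unusedSectionVars false

namespace Cfsg.Agent.BMod

open MonoidAlgebra Transfer Block Cfsg.Agent.Char CharDeep Module
open scoped ComplexConjugate

section block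
variable {p : ℕ} [hp : Fact p.Prime] {M : Ideal AlgInt} [PMod p M] {G : Type*} [Group G]
  [Fintype G]
variable {i e z : (F M)[G]} {B : Set (IrrCharacter G)} {χ ψ : IrrCharacter G} {P : Subgroup G}

local notation "𝐂" P => Subgroup.centralizer (P : Set G)
local notation "𝐍" P => Subgroup.normalizer (P : Set G)

theorem coeff_one_mul_comm {R : Type*} [CommRing R] (a b : R[G]) :
    (a * b).coeff 1 = (b * a).coeff 1 := by
  classical
  induction a using MonoidAlgebra.induction_linear with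
  | zero => simp
  | add a a' ha ha' => simp [add_mul, mul_add, ha, ha']
  | single g c => rw [coeff_single_mul_apply, coeff_mul_single_apply]; simp [mul_comm]

theorem eq_zero_of_coeff_one {R : Type*} [CommRing R] {a : R[G]}
    (h : ∀ b, (a * b).coeff 1 = 0) : a = 0 := by
  ext g
  simpa [coeff_mul_single_apply] using h (single g⁻¹ 1)

theorem card_mul_coeff_classSum (j : ℂ[G]) (g : G) :
    Nat.card G * (classSum ℂ ⊤ g * j).coeff 1 =
      (Subgroup.centralizer ({g} : Set G)).index * pc j g := by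
  classical
  have h1 := ev_eq_pc (φ := fun h => if IsConj g⁻¹ h then 1 else 0) (fun a b => if_congr
    ⟨fun h => h.trans (isConj_iff.2 ⟨b, rfl⟩).symm, fun h => h.trans (isConj_iff.2 ⟨b, rfl⟩)⟩
    rfl rfl) j
  have h2 : ∀ h : G, IsConj g⁻¹ h⁻¹ ↔ IsConj g h := fun h => by
    simp only [isConj_iff]
    exact exists_congr fun c => by rw [← inv_inj]; simp [mul_assoc]
  have h3 : ∑ h, pc j h * (if IsConj g⁻¹ h⁻¹ then 1 else 0) =
      (Subgroup.centralizer ({g} : Set G)).index * pc j g := by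
    rw [← Block.card_filter_isConj, Finset.card_filter, Nat.cast_sum, Finset.sum_mul]
    refine Finset.sum_congr rfl fun h _ => ?_
    rw [if_congr (h2 h) rfl rfl]
    split_ifs with hh
    · simp [(isClassFunction_pc j).apply_eq_of_isConj hh]
    · simp
  rw [← h3, ← mul_right_inj' (inv_ne_zero (Nat.cast_ne_zero.2 (Nat.card_pos (α := G)).ne')), ← h1,
    inv_mul_cancel_left₀ (Nat.cast_ne_zero.2 (Nat.card_pos (α := G)).ne'), ev_eq_sum,
    coeff_one_mul_comm]
  conv_lhs => rw [eq_sum_single j]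
  simp only [Finset.sum_mul, MonoidAlgebra.coeff_sum, Finsupp.finsetSum_apply,
    coeff_single_mul_apply, mul_one, coeff_classSum_top]
  exact Finset.sum_congr rfl fun h _ => by simp only [← h2 h⁻¹, inv_inv]

theorem coeff_classSum_mul (hU : IsBlockUnion M B) (hl : blockRank p B = 1) (hχ : χ ∈ B)
    (hi : IsIdempotentElem i) (h : eB M B * i = i) {g : G}
    (h0 : lam M χ (classSum (F M) ⊤ g) = 0) : (classSum (F M) ⊤ g * i).coeff 1 = 0 := by
  obtain ⟨h1, h2, h3⟩ := lfi_spec hi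
  have hG : (Nat.card G : ℂ) ≠ 0 := Nat.cast_ne_zero.2 (Nat.card_pos (α := G)).ne'
  rw [← h3, ← redA_classSum, ← redA_mul (classSum_mem_OG _ _) h1, coeff_redA]
  have h4 := card_mul_coeff_classSum (lfi i) g
  by_cases hg : p ∣ orderOf g
  · rw [pc_eq_zero h1 h2 hg, mul_zero, mul_eq_zero_iff_left hG] at h4
    rw [h4, red_zero]
  · have h5 := congrFun (rho_eq_smul_of_rank_one' hl (blockPart_pc_lfi hU hi h) hχ) g
    rw [rho_pc_lfi hi, Pi.smul_apply, rho_apply_of_not_dvd _ hg, pc_apply _ 1] at h5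
    simp only [inv_one, mul_one, inv_mul_cancel, Finset.sum_const, Finset.card_univ,
      nsmul_eq_mul, smul_eq_mul, ← Nat.card_eq_fintype_card] at h5
    have h6 : (classSum ℂ ⊤ g * lfi i).coeff 1 = (lfi i).coeff 1 * centralChar χ g := by
      rw [← mul_right_inj' hG, h4, h5, centralChar]; ring
    rw [h6, red_mul (h1 1) (centralChar_mem_O χ.2 g), ← lam_classSum χ.2, h0, mul_zero]

theorem IsMax.br_eq_zero {F : Type*} [Field F] [CharP F p] {b e z : F[G]} (hm : IsMax p b P e)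
    (hz : z ∈ Zb b) (h : e * br P z = 0) : br P z = 0 := by
  rw [← hz.2, br_mul hm.pair.1 (fix_anti le_top hm.prim.mem.1) (center_mem_fix hz.1 _),
    br_eq_orb_of_isDef le_rfl top_le_normalizer_top hm.prim hm.isDef le_top hm.pair hm.mul_br,
    orb, Finset.sum_mul]
  refine Finset.sum_eq_zero fun y hy => ?_
  obtain ⟨k, hk, rfl⟩ := mem_orbSet.1 hy
  rw [← br_mem_fix inf_le_right (center_mem_fix hz.1 (⊤ ⊓ 𝐍 P)) k hk, ← map_mul, h, map_zero]

theorem coeff_mul_eq_zero_of_br (hB : IsPBlock M B) (hm : IsMax p (eB M B) P e)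
    (hl : blockRank p B = 1) (hi : IsIdempotentElem i) (h : eB M B * i = i)
    (hz : z ∈ Cen (F M) G) (h0 : br P z = 0) : (z * i).coeff 1 = 0 := by
  classical
  obtain ⟨χ, hχ⟩ := IsPBlock.nonempty hB
  rw [center_eq_sum_classSum hz, Finset.sum_mul, MonoidAlgebra.coeff_sum, Finsupp.finsetSum_apply]
  refine Finset.sum_eq_zero fun K _ => ?_
  rw [smul_mul_assoc, coeff_smul_apply, smul_eq_mul, mul_eq_zero, or_iff_not_imp_left]
  refine fun hK => coeff_classSum_mul (IsPBlock.isBlockUnion hB) hl hχ hi h (by_contra fun h1 => ?_)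
  obtain ⟨y, hy, h2⟩ := (lam_ne_zero_iff hB hχ (classSum_mem_center _)).1 h1
  have h3 : br P (classSum (F M) ⊤ K.out) = 0 := by
    ext g
    rw [coeff_br, coeff_classSum_top]
    split_ifs with h4 h5
    · have := congrArg (fun x : (F M)[G] => x.coeff g) h0
      simp only [coeff_br, if_pos h4, ← coeff_eq_of_isConj hz h5] at this
      exact (hK this).elim
    all_goals rfl
  have h4 := hm.mul_br
  rw [← h2, br_mul hm.pair.1 (mul_mem (eB_mem_fix B P) (center_mem_fix (classSum_mem_center _) P))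
    (fix_anti le_top hy.1), br_mul hm.pair.1 (eB_mem_fix B P)
    (center_mem_fix (classSum_mem_center _) P), h3, mul_zero, zero_mul, mul_zero] at h4
  exact hm.pair.2.ne_zero h4.symm

theorem OnePt.eq_zero_of_br (hB : IsPBlock M B) (hm : IsMax p (eB M B) P e)
    (h : OnePt (eB M B) i) (hk : Nat.card B = p ^ blockDefect p B) (hz : z ∈ Zb (eB M B))
    (h0 : e * br P z = 0) : z = 0 := by
  have h1 := hm.br_eq_zero hz h0
  refine h.eq_zero (F M) (center_comm hz.1) hz.2 (eq_zero_of_coeff_one fun a => ?_)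
  obtain ⟨w, hw, h2⟩ := h.exists_central hB hk a
  calc (z * i * a).coeff 1 = (z * (i * a * i)).coeff 1 := by
        rw [← mul_assoc z, coeff_one_mul_comm _ i, ← mul_assoc, ← mul_assoc, ← center_comm hz.1,
          mul_assoc z i i, h.loc.idem.eq]
    _ = 0 := by
        rw [h2, ← mul_assoc]
        exact coeff_mul_eq_zero_of_br hB hm (h.rank (IsPBlock.isBlockUnion hB)) h.loc.idem h.le
          (mul_mem hz.1 hw.1) (by rw [br_mul hm.pair.1 (center_mem_fix hz.1 _)
            (center_mem_fix hw.1 _), h1, zero_mul])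

/-- `l(B) = 1`, `k(B) = |P|` and `P` abelian give a nilpotent block. -/
theorem nil_of_card_eq (hB : IsPBlock M B) (hP : IsDefectGroup p M B P) (hab : P ≤ 𝐂 P)
    (hl : blockRank p B = 1) (hk : Nat.card B = p ^ blockDefect p B) : Nil p ⊤ (eB M B) := by
  classical
  obtain ⟨e, hm⟩ := exists_isMax hB hP
  obtain ⟨i, hi⟩ := exists_onePt (IsPBlock.isBlockUnion hB) hl
  have he := hm.pair
  have hc := isPBlock_bq he le_rfl
  have hm' := isMax_bq hm hab le_rfl
  have he' : inc (𝐂 P) (eB M (bq p P e P)) = e := (eS_bq he le_rfl).trans (fq_eq (PLE.refl _))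
  have hs : ∀ z, e * br P z ∈ supp (F M) (𝐂 P) := fun z => mul_mem he.supp (br_mem_supp _ _)
  let φ : Zb (eB M B) →ₗ[F M] Zb (eB M (bq p P e P)) := LinearMap.codRestrict _
    (resA (𝐂 P) ∘ₗ LinearMap.mulLeft (F M) e ∘ₗ br P ∘ₗ Submodule.subtype _) fun z =>
      ⟨resA_mem_center (mul_mem he.fix_centralizer
        (br_mem_Zc_centralizer (center_mem_fix z.2.1 _)).1), inc_injective _ (by
        simp only [LinearMap.comp_apply, LinearMap.mulLeft_apply, Submodule.subtype_apply]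
        rw [map_mul, he', inc_resA_of_mem (hs _), ← mul_assoc, he.2.idem.eq])⟩
  have hφ : ∀ z, inc (𝐂 P) (φ z) = e * br P z := fun z => inc_resA_of_mem (hs _)
  have h1 : Function.Injective φ := (injective_iff_map_eq_zero φ).2 fun z hz =>
    Subtype.ext (hi.eq_zero_of_br hB hm hk z.2 (by rw [← hφ, hz]; simp))
  have h2 := (LinearMap.injective_iff_surjective_of_finrank_eq_finrank (by
    rw [finrank_Zb_eB (IsPBlock.isBlockUnion hB), finrank_Zb_eB (IsPBlock.isBlockUnion hc), hk,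
      ← IsDefectGroup.card_eq hB hP, card_eq_card_irr (sup_centralizer_of_le_center fun x hx =>
        Subgroup.mem_center_iff.2 fun y => Subtype.ext (y.2 x hx).symm) hc
        ((isDefectGroup_iff_isDef hc).2 hm'.isDef), card_irr_of_comm fun a b =>
        Subtype.ext (subgroupOf_le_centralizer hab b.2 a a.2)]
    exact (Nat.card_congr (Subgroup.subgroupOfEquivOfLe hab).toEquiv).symm)).1 h1
  refine (hm.nil_iff_of_comm hab).2 fun t ht v hv => ?_
  have h3 : e * single v 1 ∈ supp (F M) (𝐂 P) := mul_mem he.supp (single_mem_supp (hab hv) _)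
  obtain ⟨z, hz⟩ := h2 ⟨resA (𝐂 P) (e * single v 1), resA_mem_center (mul_mem he.fix_centralizer
    fun k hk => by rw [cj_single, ← (hk v hv), mul_inv_cancel_right]), inc_injective _ (by
      rw [map_mul, he', inc_resA_of_mem h3, ← mul_assoc, he.2.idem.eq])⟩
  have h4 := hφ z
  rw [hz, inc_resA_of_mem h3] at h4
  have h5 := congrArg (cj t) h4
  rw [map_mul, map_mul, ht.2, cj_single, br_mem_fix NP_le_normalizer (center_mem_fix z.2.1 _) t ht,
    ← h4] at h5
  have h6 := he.linInd.injective (a₁ := ⟨_, (Subgroup.mem_normalizer_iff.1 ht.1 v).1 hv⟩)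
    (a₂ := ⟨v, hv⟩) h5
  exact (mul_inv_eq_iff_eq_mul.1 (congrArg Subtype.val h6)).symm

theorem exists_int_deg {θ : G → ℂ} {n : ℕ} (hn : ∀ χ ∈ B, charDegree (χ : G → ℂ) = n)
    (hθ : IsGeneralizedCharacter G θ) (hB : blockPart B θ = θ) : ∃ m : ℤ, θ 1 = m * n := by
  classical
  obtain ⟨m, hm⟩ := exists_ev_eq_sum hθ hB
  refine ⟨∑ χ ∈ Finset.univ.filter (· ∈ B), m χ, ?_⟩
  rw [← ev_one θ, hm, Int.cast_sum, Finset.sum_mul]
  exact Finset.sum_congr rfl fun χ hχ => by
    rw [ev_one, ← hn χ (Finset.mem_filter.1 hχ).2, deg_cast_irr χ]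

theorem card_eq_of_deg {n : ℕ} (hB : IsPBlock M B) (hn : ∀ χ ∈ B, charDegree (χ : G → ℂ) = n)
    (hl : blockRank p B = 1) : Nat.card B = p ^ blockDefect p B := by
  classical
  obtain ⟨φ, d, hφ, hφB, h1, h2⟩ := rank_one hB hl
  obtain ⟨m, hm⟩ := exists_int_deg hn hφ hφB
  rw [← h2, finsum_mem_eq_filter, card_eq_filter, Finset.card_eq_sum_ones]
  refine Finset.sum_congr rfl fun χ hχ => ?_
  have hχ := (Finset.mem_filter.1 hχ).2
  have h3 := congrFun (h1 χ hχ) 1
  rw [Pi.smul_apply, rho_apply_one, rho_apply_one, hm, ← hn χ hχ, deg_cast_irr χ,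
    smul_eq_mul, ← mul_assoc, eq_comm, mul_eq_right₀ χ.2.apply_one_ne_zero] at h3
  have h4 : (d χ : ℤ) * m = 1 := by exact_mod_cast h3
  have h5 : d χ = 1 := by exact_mod_cast Int.eq_one_of_mul_eq_one_right (by positivity) h4
  rw [h5]; rfl

theorem rank_one_of_deg {n : ℕ} (hB : IsPBlock M B) (hn : ∀ χ ∈ B, charDegree (χ : G → ℂ) = n)
    (h0 : ∀ χ ∈ B, blockHeight p B (χ : G → ℂ) = 0) : blockRank p B = 1 := by
  classical
  have hU := IsPBlock.isBlockUnion hB
  have := finite_pt (F M) (F M)[G]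
  have := Fintype.ofFinite (Pt (F M)[G])
  choose d hd using fun (χ : IrrCharacter G) (γ : Pt (F M)[G]) =>
    exists_nat_ev_lfi χ.2.isCharacter γ.out.2.idem
  have h1 : ∀ {η : G → ℂ}, IsClassFunction G η →
      η 1 = ∑ γ : Pt (F M)[G], mult (F M) γ.out.2 1 * ev η (lfi γ.out.1) := fun hη => by
    rw [← ev_lfi_eq_sum hη .one, ev_lfi_one hη]
  have h2 : ∀ χ ∈ B, ∀ γ, d χ γ ≠ 0 → ∀ δ, d χ δ = if γ = δ then 1 else 0 := fun χ hχ γ hγ δ => by
    have h3 : ∀ δ, d χ δ ≠ 0 → n ≤ mult (F M) δ.out.2 1 := fun δ hδ => by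
      obtain ⟨θ, hθ, hθB, h4⟩ := exists_gen_dual hU δ.out.2 ((δ.out.2.eB_or hU).resolve_left
        fun h => hδ (by
          have := ev_lfi_of_mul_eq_zero hU (blockPart_irr_of_mem hχ) δ.out.2.idem h
          rw [hd] at this; exact_mod_cast this))
      obtain ⟨m, hm⟩ := exists_int_deg hn hθ hθB
      rw [h1 (IsGeneralizedCharacter.isClassFunction hθ), Finset.sum_eq_single δ (fun γ _ h => by
        rw [h4 _ γ.out.2, if_neg fun h' => h (eqv_out_iff.1 h').symm, mul_zero]) (by simp),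
        h4 _ δ.out.2, if_pos (Eqv.refl δ.out.2.idem), mul_one] at hm
      obtain ⟨T, hT⟩ := exists_dec (F M) (IsIdempotentElem.one (M := (F M)[G]))
      obtain ⟨s, hs, hs'⟩ := hT.exists_eqv (F M) δ.out.2
      refine Nat.le_of_dvd (by
        rw [hT.mult_eq]; exact Finset.card_pos.2 ⟨s, Finset.mem_filter.2 ⟨hs, hs'⟩⟩)
        (Int.natCast_dvd_natCast.1 ⟨m, ?_⟩)
      rw [mul_comm]; exact_mod_cast hm
    have h4 := h1 (irrC χ)
    simp only [hd] at h4
    rw [← deg_cast_irr χ, hn χ hχ] at h4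
    have h5 : n = ∑ γ : Pt (F M)[G], mult (F M) γ.out.2 1 * d χ γ := by exact_mod_cast h4
    have h6 : 0 < n := hn χ hχ ▸ deg_pos χ.2
    have h7 := h3 γ hγ
    split_ifs with h
    · subst h
      have := Finset.single_le_sum (f := fun γ : Pt (F M)[G] => mult (F M) γ.out.2 1 * d χ γ)
        (fun _ _ => Nat.zero_le _) (Finset.mem_univ γ)
      by_contra h8
      have : 2 ≤ d χ γ := by omega
      nlinarith
    · by_contra h8
      have := Finset.add_le_sum (f := fun γ : Pt (F M)[G] => mult (F M) γ.out.2 1 * d χ γ)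
        (fun _ _ => Nat.zero_le _) (Finset.mem_univ γ) (Finset.mem_univ δ) h
      have h9 := h3 δ h8
      have := Nat.pos_of_ne_zero hγ
      have := Nat.pos_of_ne_zero h8
      nlinarith
  obtain ⟨χ, hχ⟩ := IsPBlock.nonempty hB
  obtain ⟨γ, hγ⟩ : ∃ γ, d χ γ ≠ 0 := by
    by_contra! h
    exact χ.2.apply_one_ne_zero (by simp [h1 (irrC χ), hd, h])
  have h3 : ∀ ψ ∈ B, d ψ γ ≠ 0 → rho p (ψ : G → ℂ) = rho p (χ : G → ℂ) := fun ψ hψ h =>
    rho_eq_of_pt hU (blockPart_irr_of_mem hψ) (blockPart_irr_of_mem hχ) fun i hi _ => by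
      rw [ev_lfi_eqv (irrC ψ) hi.idem _ (eqv_out ⟨i, hi⟩).symm,
        ev_lfi_eqv (irrC χ) hi.idem _ (eqv_out ⟨i, hi⟩).symm, hd, hd, h2 ψ hψ γ h, h2 χ hχ γ hγ]
      all_goals exact (Subtype.property _ : IsLoc _).idem
  have hγB := (γ.out.2.eB_or hU).resolve_left fun h => hγ (by
    have := ev_lfi_of_mul_eq_zero hU (blockPart_irr_of_mem hχ) γ.out.2.idem h
    rw [hd] at this; exact_mod_cast this)
  refine blockRank_eq_one hχ fun ψ hψ => ⟨1, fun g hg => ?_⟩
  rw [one_mul]
  refine rho_eq_rho_iff.1 (h3 ψ hψ fun h => ?_) g hg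
  have h4 : pc (lfi γ.out.1) = ∑ ξ : IrrCharacter G, (d ξ γ : ℂ) • (ξ : G → ℂ) := by
    conv_lhs => rw [IsClassFunction.eq_sum_irr (isClassFunction_pc _)]
    simp only [classInner_pc (irr_gen _), hd]
  have h5 : ctr p (pc (lfi γ.out.1)) ψ = 0 := by
    rw [ctr, rho_pc_lfi γ.out.2.idem, classInner_pc (irr_gen _), hd, h, Nat.cast_zero]
  have h6 : ∀ ξ : IrrCharacter G, ctr p ((d ξ γ : ℂ) • (ξ : G → ℂ)) ψ =
      d ξ γ * ctr p (χ : G → ℂ) ψ :=
    fun ξ => by
      rw [ctr_smul_left]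
      by_cases h7 : d ξ γ = 0
      · simp [h7]
      · rw [← ctr_rho_left, h3 ξ (by_contra fun h8 => h7 (by
          have := ev_lfi_of_notMem hU h8 γ.out.2.idem hγB
          rw [hd] at this; exact_mod_cast this)) h7, ctr_rho_left]
  obtain ⟨m, hm, hm'⟩ := exists_ctr_eq hB hχ ψ
  rw [h4, ctr_sum_left, Finset.sum_congr rfl fun ξ _ => h6 ξ, ← Finset.sum_mul, mul_eq_zero,
    ← Nat.cast_sum, Nat.cast_eq_zero, Finset.sum_eq_zero_iff] at h5
  rw [h5.resolve_left fun h7 => hγ (h7 χ (Finset.mem_univ _)), h0 χ hχ, mul_zero, pow_zero,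
    one_mul, eq_comm, Int.cast_eq_zero] at hm
  exact hm'.2 ⟨hψ, h0 ψ hψ⟩ (hm ▸ dvd_zero _)

end block

end Cfsg.Agent.BMod
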