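import Cfsg.Agent.BMod.KW
import Cfsg.Agent.Block.Galois

/-!
Averages of generalized characters over the generators of a cyclic `2`-group (`Gn.exists_av`,
`Gn.exists_half`, `Gn.pow_le`) and the traces of contributions for `p = 2` (`Av`, `IsSub.exists_av`).
-/

set_option linter.unusedSectionVars false

namespace Cfsg.Agent.BMod

open MonoidAlgebra Transfer Block Cfsg.Agent.Char CharDeep Module Polynomial
open scoped ComplexConjugate

variable {M : Ideal AlgInt} [PMod 2 M]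

theorem red_aeval {M : Ideal AlgInt} [M.IsMaximal] {ζ : ℂ} (h : red M ζ = 1) (q : ℤ[X]) :
    aeval ζ q ∈ O M ∧ red M (aeval ζ q) = ((q.eval 1 : ℤ) : F M) := by
  have hζ : ζ ∈ O M := mem_O_of_red_ne_zero (h ▸ one_ne_zero)
  induction q using Polynomial.induction_on' with
  | add a b ha hb => simp [add_mem ha.1 hb.1, red_add ha.1 hb.1, ha.2, hb.2]
  | monomial n a =>
    simp [aeval_monomial, mul_mem (intCast_mem _ a) (pow_mem hζ n),
      red_mul (intCast_mem _ a) (pow_mem hζ n), red_pow hζ, h]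

theorem exists_half_poly {ζ : ℂ} {k : ℕ} (h : ζ ^ 2 ^ k = -1) {a : ℤ[X]}
    (ha : aeval ζ a / 2 ∈ O M) : ∃ r q : ℤ[X], a = 2 * r + (X ^ 2 ^ k + 1) * q := by
  obtain ⟨w, hw⟩ : ∃ w : ℤ[X], (X - 1) ^ 2 ^ k = X ^ 2 ^ k + 1 + 2 * w := by
    obtain ⟨r, hr⟩ := exists_add_pow_prime_pow_eq Nat.prime_two (X : ℤ[X]) (-1) k
    rcases neg_one_pow_eq_or ℤ[X] (2 ^ k) with h | h
    · exact ⟨-X * r, by rw [sub_eq_add_neg, hr, h]; push_cast; ring⟩
    · exact ⟨-X * r - 1, by rw [sub_eq_add_neg, hr, h]; push_cast; ring⟩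
  have h1 : red M ζ = 1 := red_eq_one_of_pow_p_pow (p := 2) (k := k + 1)
    (by rw [pow_succ, pow_mul, h]; norm_num)
  have h2 : w.eval 1 = -1 := by
    have := congrArg (eval 1) hw
    simp at this
    omega
  have h3 : (ζ - 1) ^ 2 ^ k = 2 * aeval ζ w := by simpa [h, map_ofNat] using congrArg (aeval ζ) hw
  have h4 : ζ - 1 ≠ 0 := fun h4 => by
    rw [sub_eq_zero.1 h4, one_pow] at h
    norm_num at h
  have h5 := red_aeval h1 (X - 1)
  simp only [map_sub, aeval_X, map_one, eval_sub, eval_X, eval_one, sub_self, Int.cast_zero] at h5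
  have key : ∀ j ≤ 2 ^ k, ∃ r q : ℤ[X], a = 2 * r + (X - 1) ^ j * q := fun j hj => by
    induction j with
    | zero => exact ⟨0, a, by simp⟩
    | succ j ih =>
      obtain ⟨r, q, rfl⟩ := ih (Nat.le_of_succ_le hj)
      obtain ⟨i, hi⟩ := Nat.exists_eq_add_of_lt hj
      have h6 : aeval ζ q * aeval ζ w = (ζ - 1) ^ (i + 1) *
          (aeval ζ (2 * r + (X - 1) ^ j * q) / 2 - aeval ζ r) := by
        refine mul_left_cancel₀ (pow_ne_zero j h4) ?_
        rw [← mul_assoc ((ζ - 1) ^ j) ((ζ - 1) ^ _), ← pow_add, ← add_assoc, ← hi, h3]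
        simp [map_ofNat]
        ring
      have h7 := congrArg (red M) h6
      rw [red_mul (red_aeval h1 q).1 (red_aeval h1 w).1, red_mul (pow_mem h5.1 _)
        (sub_mem ha (red_aeval h1 r).1), red_pow h5.1, h5.2, (red_aeval h1 q).2,
        (red_aeval h1 w).2, h2] at h7
      obtain ⟨c, hc⟩ := (CharP.intCast_eq_zero_iff (F M) 2 (q.eval 1)).1 (by simpa using h7)
      obtain ⟨q', hq'⟩ := X_sub_C_dvd_sub_C_eval (p := q) (a := 1)
      refine ⟨r + (X - 1) ^ j * C c, q', ?_⟩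
      rw [sub_eq_iff_eq_add.1 hq', hc]
      simp [map_ofNat]
      ring
  obtain ⟨r, q, rfl⟩ := key _ le_rfl
  exact ⟨r + w * q, q, by rw [hw]; ring⟩

section gn
variable {A : Type*} [Group A] [Fintype A] {w u : A} {S : Finset A} {t : A → ℂ}

/-- `S` is the set of generators of the cyclic `2`-subgroup `⟨w⟩` of an abelian group. -/
structure Gn (w : A) (S : Finset A) : Prop where
  comm : ∀ a b : A, a * b = b * a
  ord : ∃ n, orderOf w = 2 ^ n
  mem : ∀ u, u ∈ S ↔ ∃ k, u = w ^ (2 * k + 1)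

theorem Gn.self_mem (h : Gn w S) : w ∈ S := (h.mem w).2 ⟨0, by simp⟩

theorem Gn.pos (h : Gn w S) : (0 : ℝ) < S.card := by
  exact_mod_cast Finset.card_pos.2 ⟨w, h.self_mem⟩

theorem Gn.pow_mem (h : Gn w S) (m : ℕ) (hm : m.Coprime (Nat.card A)) (u : A) (hu : u ∈ S) :
    u ^ m ∈ S := by
  obtain ⟨k, rfl⟩ := (h.mem u).1 hu
  obtain ⟨n, hn⟩ := h.ord
  rcases n with - | n
  · rw [pow_zero, orderOf_eq_one_iff] at hn
    simpa [hn] using hu
  obtain ⟨j, rfl⟩ : Odd m := Nat.Coprime.odd_of_right (hm.coprime_dvd_right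
    ((hn ▸ dvd_pow_self 2 n.succ_ne_zero : 2 ∣ orderOf w).trans (orderOf_dvd_natCard w)))
  exact (h.mem _).2 ⟨2 * k * j + k + j, by rw [← pow_mul]; congr 1; ring⟩

theorem Gn.sum_irr (h : Gn w S) (χ : IrrCharacter A) :
    ∑ u ∈ S, χ.1 u = S.card * if χ.1 w ^ 2 = 1 then χ.1 w else 0 := by
  classical
  obtain ⟨l, hl⟩ := IsIrrCharacter.exists_hom_of_comm χ.2 h.comm
  simp only [hl]
  split_ifs with h1
  · rw [← nsmul_eq_mul, ← Finset.sum_const]
    refine Finset.sum_congr rfl fun u hu => ?_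
    obtain ⟨k, rfl⟩ := (h.mem u).1 hu
    rw [map_pow, Units.val_pow_eq_pow_val, pow_succ, pow_mul, h1, one_pow, one_mul]
  have h2 : S.image (w ^ 2 * ·) = S := Finset.eq_of_subset_of_card_le (fun x hx => by
    obtain ⟨g, hg, rfl⟩ := Finset.mem_image.1 hx
    obtain ⟨k, rfl⟩ := (h.mem g).1 hg
    exact (h.mem _).2 ⟨k + 1, by rw [← pow_add]; congr 1; ring⟩)
    (Finset.card_image_of_injective _ (mul_right_injective _)).ge
  have h3 : ∑ u ∈ S, (l u : ℂ) = l w ^ 2 * ∑ u ∈ S, (l u : ℂ) := by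
    conv_lhs => rw [← h2, Finset.sum_image (mul_right_injective _).injOn]
    simp [Finset.mul_sum]
  rw [mul_zero]
  exact eq_zero_of_mul_eq_self_left h1 h3.symm

theorem Gn.exists_av (h : Gn w S) (ht : IsGeneralizedCharacter A t) :
    ∃ a : ℤ, ∑ u ∈ S, t u = S.card * a ∧ ((∀ u, conj (t u) = t u) → red M (t w) = a) := by
  classical
  obtain ⟨n, hn, hn'⟩ := IsGeneralizedCharacter.exists_int_coeff ht
  have h1 : ∀ χ : IrrCharacter A, ∃ c : ℤ, (if χ.1 w ^ 2 = 1 then χ.1 w else 0) = c := fun χ => by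
    split_ifs with h1
    · rcases sq_eq_one_iff.1 h1 with h | h
      · exact ⟨1, by simp [h]⟩
      · exact ⟨-1, by simp [h]⟩
    · exact ⟨0, by simp⟩
  choose c hc using h1
  refine ⟨∑ χ, n χ * c χ, ?_, fun hr => ?_⟩
  · rw [hn']
    simp only [Finset.sum_apply, Pi.smul_apply, smul_eq_mul]
    rw [Finset.sum_comm]
    simp only [← Finset.mul_sum, h.sum_irr, hc]
    push_cast
    simp only [Finset.mul_sum, mul_left_comm]
  have h2 : ∀ χ : IrrCharacter A, red M (χ.1 w) = 1 := fun χ => by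
    rw [red_gen_pElt (irrG χ) h.ord, IsIrrCharacter.apply_one_of_comm χ.2 h.comm, red_one]
  have h3 : ∀ χ, n (barIrr χ) = n χ := fun χ => by
    refine Int.cast_injective (α := ℂ) ?_
    rw [← hn, ← map_intCast (starRingEnd ℂ), ← hn, conj_classInner, ← classInner_conj_conj]
    simp [hr]
  have h4 : ∑ χ with χ.1 w ^ 2 ≠ 1, (n χ : F M) = 0 :=
    Finset.sum_involution (fun χ _ => barIrr χ) (fun χ _ => by rw [h3, CharTwo.add_self_eq_zero])
      (fun χ hχ _ h5 => (Finset.mem_filter.1 hχ).2 (by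
        obtain ⟨l, hl⟩ := IsIrrCharacter.exists_hom_of_comm χ.2 h.comm
        have h6 := barIrr_apply' χ w
        rw [h5, hl] at h6
        rw [hl, sq]
        nth_rewrite 1 [h6]
        simp))
      (fun χ hχ => by
        simp only [Finset.mem_filter, Finset.mem_univ, true_and] at hχ ⊢
        rwa [barIrr_apply, ← map_pow, Ne, map_eq_one_iff _ (starRingEnd ℂ).injective])
      fun χ _ => barIrr_barIrr χ
  have h5 : ∀ χ : IrrCharacter A, (c χ : F M) = if χ.1 w ^ 2 = 1 then 1 else 0 := fun χ => by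
    rw [← red_intCast, ← hc]
    split_ifs
    exacts [h2 χ, red_zero]
  conv_lhs => rw [hn']
  simp only [Finset.sum_apply, Pi.smul_apply, smul_eq_mul]
  rw [red_sum _ fun χ _ => mul_mem (intCast_mem _ _) (gen_mem_O (irrG χ) w)]
  simp only [red_mul (intCast_mem _ _) (gen_mem_O (irrG _) w), h2,
    red_intCast, mul_one, Int.cast_sum, Int.cast_mul, h5, mul_ite, mul_zero]
  rw [← Finset.sum_filter_add_sum_filter_not _ fun χ : IrrCharacter A => χ.1 w ^ 2 = 1, h4,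
    add_zero, Finset.sum_filter]

theorem isGen_aeval (l : A →* ℂˣ) (q : ℤ[X]) :
    IsGeneralizedCharacter A fun u => aeval (l u : ℂ) q := by
  induction q using Polynomial.induction_on' with
  | add a b ha hb => simpa [Pi.add_def] using IsGeneralizedCharacter.add ha hb
  | monomial n a =>
    simpa [Pi.smul_def, aeval_monomial] using IsGeneralizedCharacter.intCast_smul
      (IsCharacter.isGeneralizedCharacter (isCharacter_hom (l ^ n))) a

theorem Gn.exists_half (h : Gn w S) (ht : IsGeneralizedCharacter A t) (h2 : t w / 2 ∈ O M) :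
    ∃ s, IsGeneralizedCharacter A s ∧ ∀ u ∈ S, t u = 2 * s u := by
  obtain ⟨n, hn⟩ := h.ord
  rcases n with - | n
  · rw [pow_zero, orderOf_eq_one_iff] at hn
    subst hn
    obtain ⟨m, hm⟩ := IsGeneralizedCharacter.exists_int_apply_one ht
    obtain ⟨c, hc⟩ := int_pow_dvd_of_mem_O (p := 2) (M := M) (n := m) (k := 1) (by simpa [hm] using h2)
    refine ⟨_, IsGeneralizedCharacter.intCast_smul isGeneralizedCharacter_one c, fun u hu => ?_⟩
    obtain ⟨k, rfl⟩ := (h.mem u).1 hu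
    simp [hm, hc]
  letI : CommGroup A := { ‹Group A› with mul_comm := h.comm }
  obtain ⟨l, hl⟩ := CommGroup.exists_apply_ne_one_of_hasEnoughRootsOfUnity A ℂ
    (a := w ^ 2 ^ n) (pow_ne_one_of_lt_orderOf (by positivity) (by rw [hn]; gcongr <;> simp))
  have h3 : ∀ m : A →* ℂˣ, (m w : ℂ) ^ 2 ^ (n + 1) = 1 := fun m => by
    rw [← Units.val_pow_eq_pow_val, ← map_pow, ← hn, pow_orderOf_eq_one, map_one, Units.val_one]
  have h4 : (l w : ℂ) ^ 2 ^ n = -1 := (sq_eq_one_iff.1 (by rw [← pow_mul, ← pow_succ, h3])).resolve_left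
    fun h4 => hl (Units.ext (by simpa using h4))
  have h5 : IsPrimitiveRoot (l w : ℂ) (2 ^ (n + 1)) := by
    rw [← orderOf_eq_prime_pow (by rw [h4]; norm_num) (h3 l)]
    exact IsPrimitiveRoot.orderOf _
  obtain ⟨c, -, hc⟩ := IsGeneralizedCharacter.exists_int_coeff ht
  have h6 : ∀ χ : IrrCharacter A, ∃ j, ∀ k, χ.1 (w ^ k) = (l (w ^ k) : ℂ) ^ j := fun χ => by
    obtain ⟨m, hm⟩ := IsIrrCharacter.exists_hom_of_comm χ.2 h.comm
    obtain ⟨j, -, hj⟩ := h5.eq_pow_of_pow_eq_one (h3 m)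
    exact ⟨j, fun k => by simp [hm, ← hj, ← pow_mul, mul_comm]⟩
  choose j hj using h6
  have h7 : ∀ k, t (w ^ k) = aeval (l (w ^ k) : ℂ) (∑ χ, C (c χ) * X ^ j χ) := fun k => by
    rw [hc]
    simp [hj, -map_pow, map_pow (aeval _)]
  obtain ⟨r, q, hr⟩ := exists_half_poly h4 (M := M) (a := ∑ χ, C (c χ) * X ^ j χ)
    (by rwa [← pow_one w, ← h7, pow_one])
  refine ⟨_, isGen_aeval l r, fun u hu => ?_⟩
  obtain ⟨k, rfl⟩ := (h.mem u).1 hu
  have h8 : (l (w ^ (2 * k + 1)) : ℂ) ^ 2 ^ n = -1 := by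
    rw [map_pow, Units.val_pow_eq_pow_val, ← pow_mul, mul_comm, pow_mul, h4, pow_succ, pow_mul]
    simp
  rw [h7, hr]
  simp [-map_pow, map_pow (aeval _), h8, map_ofNat]

theorem Gn.pow_le (h : Gn w S) (k : ℕ) : ∀ {t : A → ℂ}, IsGeneralizedCharacter A t →
    (∀ u ∈ S, t u ≠ 0 ∧ t u = ‖t u‖) → t w / 2 ^ k ∈ O M → red M (t w / 2 ^ k) = 0 →
    ∀ a : ℤ, ∑ u ∈ S, t u = S.card * a → 2 ^ (k + 1) ≤ a := by
  induction k with
  | zero =>
    intro t ht h0 _ h1 a ha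
    obtain ⟨n, hn⟩ := exists_int_prod ht S h.pow_mem
    have h2 : 1 ≤ ∏ u ∈ S, ‖t u‖ := by
      rw [← norm_prod, hn, Complex.norm_intCast]
      exact_mod_cast Int.one_le_abs fun h2 =>
        Finset.prod_ne_zero_iff.2 (fun u hu => (h0 u hu).1) (by simpa [h2] using hn)
    by_contra h3
    have h4 : ∑ u ∈ S, ‖t u‖ = S.card * a := by
      rw [Finset.sum_congr rfl fun u hu => (h0 u hu).2] at ha
      exact_mod_cast ha
    have h5 := eq_one_of_sum_le S _ (fun u hu => norm_pos_iff.2 (h0 u hu).1) h2 (by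
      rw [h4]
      exact mul_le_of_le_one_right h.pos.le (by exact_mod_cast (by omega : a ≤ 1))) w h.self_mem
    rw [(h0 w h.self_mem).2, h5] at h1
    simp at h1
  | succ k ih =>
    intro t ht h0 h1 h2 a ha
    obtain ⟨s, hs, hs'⟩ := h.exists_half (M := M) ht (by
      convert mul_mem h1 (_root_.pow_mem (ofNat_mem (O M) 2) k) using 1
      field_simp
      ring)
    obtain ⟨a', ha', -⟩ := h.exists_av (M := M) hs
    have h3 : t w / 2 ^ (k + 1) = s w / 2 ^ k := by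
      rw [hs' w h.self_mem]; field_simp; ring
    have h4 := ih hs (fun u hu => ?_) (h3 ▸ h1) (h3 ▸ h2) a' ha'
    · rw [Finset.sum_congr rfl hs', ← Finset.mul_sum, ha', mul_left_comm] at ha
      have h5 : 2 * a' = a := by
        exact_mod_cast mul_left_cancel₀ (by exact_mod_cast h.pos.ne' : (S.card : ℂ) ≠ 0) ha
      omega
    have h5 := h0 u hu
    rw [hs' u hu] at h5
    exact ⟨right_ne_zero_of_mul h5.1, by simpa using h5.2⟩

end gn

variable {G : Type*} [Group G] [Finite G] {H : Subgroup G} [Fintype H] {z : H}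
  {b : Set (IrrCharacter H)} {B : Set (IrrCharacter G)} {χ ψ : IrrCharacter G}
  {a : IrrCharacter G → ℤ}

theorem IsSub.gn (h : IsSub 2 H z) : Gn ⟨z, h.mem_center⟩ (gens z) := by
  obtain ⟨n, hn⟩ := h.ord
  refine ⟨fun a b => Subtype.ext (Subgroup.mem_center_iff.1 b.2 a), ⟨n, by
    rw [← hn, Subgroup.orderOf_coe, ← Subgroup.orderOf_coe]⟩, fun u => mem_gens.trans
    ⟨fun hu => ?_, ?_⟩⟩
  · obtain ⟨m, hm⟩ := (mem_powers_iff_mem_zpowers.2 (hu ▸ Subgroup.mem_zpowers _) :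
      ((u : H) : G) ∈ Submonoid.powers (z : G))
    have h1 := mem_zpowers_pow_iff.1 (show (z : G) ∈ Subgroup.zpowers ((z : G) ^ m) by
      rw [show (z : G) ^ m = _ from hm, hu]; exact Subgroup.mem_zpowers _)
    rcases Nat.even_or_odd' m with ⟨k, rfl | rfl⟩
    · have h2 : orderOf (z : G) = 1 := by
        rw [hn] at h1 ⊢
        simpa using (Nat.Coprime.coprime_dvd_left (dvd_mul_right 2 k) h1).pow_left n
      rw [orderOf_eq_one_iff] at h2
      exact ⟨0, Subtype.ext (Subtype.ext (by simpa [h2] using hm.symm))⟩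
    · exact ⟨k, Subtype.ext (Subtype.ext hm.symm)⟩
  · rintro ⟨k, rfl⟩
    refine le_antisymm (Subgroup.zpowers_le.2 (Subgroup.npow_mem_zpowers _ _))
      (Subgroup.zpowers_le.2 (mem_zpowers_pow_iff.2 ?_))
    rw [hn]
    exact Nat.Coprime.pow_right _ (by simp)

/-- `a χ` is the average of the contribution of `χ` over the generators of `⟨z⟩`. -/
def Av (z : H) (b : Set (IrrCharacter H)) (a : IrrCharacter G → ℤ) : Prop :=
  ∀ χ : IrrCharacter G, 2 ^ blockDefect 2 b * ∑ u ∈ gens z, ‖mm 2 (u : H) b χ.1 χ.1‖ =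
    (gens z).card * a χ

theorem mz_self (χ : IrrCharacter G) (u : Subgroup.center H) : mz 2 b χ.1 χ.1 u =
    (2 ^ blockDefect 2 b * ‖mm 2 (u : H) b χ.1 χ.1‖ : ℝ) := by
  rw [mz_eq (irrC χ) (irrC χ)]
  push_cast
  rw [← mm_self_eq]

theorem Av.sum_mz (h : Av z b a) (χ : IrrCharacter G) :
    ∑ u ∈ gens z, mz 2 b χ.1 χ.1 u = (gens z).card * a χ := by
  simp only [mz_self, ← Complex.ofReal_sum, ← Finset.mul_sum, h χ]
  simp

theorem IsSub.exists_av (h : IsSub 2 H z) (hind : IsInducedBlock M H b B) :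
    ∃ a, Av z b a ∧ ∀ χ ∈ B, blockHeight 2 B χ.1 = 0 → Odd (a χ) := by
  have := Fintype.ofFinite (Subgroup.center H)
  choose a h1 h2 using fun χ : IrrCharacter G =>
    h.gn.exists_av (M := M) (isGen_mz (p := 2) hind.1 (irrG χ) (irrG χ))
  refine ⟨a, fun χ => ?_, fun χ hχ h0 => ?_⟩
  · have := h1 χ
    simp only [mz_self, ← Complex.ofReal_sum, ← Finset.mul_sum] at this
    exact_mod_cast this
  have h3 := (h.red_mm_ne_zero_iff hind χ χ).2 ⟨⟨hχ, h0⟩, hχ, h0⟩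
  have h4 := h2 χ fun u => by rw [mz_self, Complex.conj_ofReal]
  rw [mz_eq (irrC χ) (irrC χ)] at h4
  rw [h4, Ne, CharP.intCast_eq_zero_iff (F M) 2] at h3
  exact Int.not_even_iff_odd.1 (mt even_iff_two_dvd.1 h3)

theorem Av.nonneg (ha : Av z b a) (h : IsSub 2 H z) (χ : IrrCharacter G) : 0 ≤ a χ := by
  have h1 : (0 : ℝ) ≤ (gens z).card * a χ := ha χ ▸ by positivity
  exact_mod_cast nonneg_of_mul_nonneg_right h1 (by exact_mod_cast h.gens_pos) 

theorem Av.sum_eq (ha : Av z b a) (h : IsSub 2 H z) (hind : IsInducedBlock M H b B)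
    [DecidablePred (· ∈ B)] :
    ∑ χ with χ ∈ B, a χ = 2 ^ blockDefect 2 b * blockRank 2 b := by
  have h1 := Finset.sum_congr rfl fun χ (_ : χ ∈ Finset.univ.filter (· ∈ B)) => ha χ
  rw [← Finset.mul_sum, ← Finset.mul_sum, Finset.sum_comm, Finset.sum_congr rfl fun u hu =>
    (h.of_zpowers_eq (mem_gens.1 hu)).sum_norm_mm_self (IsPBlock.isBlockUnion hind.2.1)
      (IsPBlock.isBlockUnion hind.1) (subset_corr hind), Finset.sum_const, nsmul_eq_mul,
    mul_left_comm] at h1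
  exact_mod_cast (mul_left_cancel₀ (by exact_mod_cast h.gens_pos.ne') h1).symm

theorem Av.sum_le (ha : Av z b a) (h : IsSub 2 H z) (hind : IsInducedBlock M H b B)
    {S : Finset (IrrCharacter G)} (hS : ∀ ψ ∈ S, ψ ∈ B) {k : IrrCharacter G → ℕ}
    (h0 : ∀ ψ ∈ S, ∀ u : H, IsSub 2 H u → mm 2 u b χ ψ ≠ 0 ∧
      (2 : ℕ) ^ blockDefect 2 b * mm 2 u b χ ψ / (2 : ℕ) ^ k ψ ∈ O M) :
    ∑ ψ ∈ S, (2 : ℤ) ^ (k ψ * 2) ≤ 2 ^ blockDefect 2 b * a χ := by
  classical
  have h1 := Finset.sum_le_sum fun ψ hψ => h.avg hind.1 (irrG χ) (irrG ψ) (h0 ψ hψ) 2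
  rw [← Finset.mul_sum, ← Finset.mul_sum, Finset.sum_comm] at h1
  have h2 := Finset.sum_le_sum fun u (hu : u ∈ gens z) =>
    (Finset.sum_le_sum_of_subset_of_nonneg (s := S) (fun ψ hψ => by simpa using hS ψ hψ)
      fun _ _ _ => sq_nonneg _).trans_eq ((h.of_zpowers_eq (mem_gens.1 hu)).sum_norm_mm_sq
      (IsPBlock.isBlockUnion hind.2.1) (IsPBlock.isBlockUnion hind.1) (subset_corr hind) χ)
  have h3 := h1.trans (mul_le_mul_of_nonneg_left h2 (by positivity))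
  rw [pow_mul, sq, Nat.cast_ofNat, mul_assoc, ha χ, mul_left_comm] at h3
  exact_mod_cast le_of_mul_le_mul_left h3 (by exact_mod_cast h.gens_pos)

theorem Av.card_le (ha : Av z b a) (h : IsSub 2 H z) (hind : IsInducedBlock M H b B) (hχ : χ ∈ B)
    (h0 : blockHeight 2 B χ.1 = 0) [DecidablePred (· ∈ B)] :
    ((Finset.univ.filter fun ψ => ψ ∈ B ∧ blockHeight 2 B ψ.1 = 0).card : ℤ) ≤
      2 ^ blockDefect 2 b * a χ := by
  simpa using ha.sum_le h hind (S := Finset.univ.filter fun ψ => ψ ∈ B ∧ blockHeight 2 B ψ.1 = 0)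
    (χ := χ) (k := fun _ => 0) (fun ψ hψ => (Finset.mem_filter.1 hψ).2.1) fun ψ hψ u hu => by
      have h2 := (hu.red_mm_ne_zero_iff hind χ ψ).2 ⟨⟨hχ, h0⟩, (Finset.mem_filter.1 hψ).2⟩
      exact ⟨right_ne_zero_of_mul (ne_zero_of_red_ne_zero h2), by
        simpa using mem_O_of_red_ne_zero h2⟩

theorem Av.sum_pow_le (ha : Av z b a) (h : IsSub 2 H z) (hind : IsInducedBlock M H b B)
    (hd : blockDefect 2 b = blockDefect 2 B) (hχ : χ ∈ B) (h0 : blockHeight 2 B χ.1 = 0)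
    [DecidablePred (· ∈ B)] :
    ∑ ψ with ψ ∈ B, (2 : ℤ) ^ (blockHeight 2 B ψ.1 * 2) ≤ 2 ^ blockDefect 2 b * a χ :=
  ha.sum_le h hind (fun ψ hψ => (Finset.mem_filter.1 hψ).2) fun ψ hψ u hu => by
    obtain ⟨w, h1, h2, -⟩ := hu.exists_mm_major hind hd hχ (Finset.mem_filter.1 hψ).2
    exact ⟨hu.mm_ne_zero_of_major hind hd hχ h0 (Finset.mem_filter.1 hψ).2, by
      rwa [hd, h2, mul_div_cancel_left₀ _ (by simp)]⟩

theorem Av.pow_le (ha : Av z b a) (h : IsSub 2 H z) (hind : IsInducedBlock M H b B)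
    (hd : blockDefect 2 b = blockDefect 2 B) (hχ : χ ∈ B) (h0 : blockHeight 2 B χ.1 ≠ 0) :
    2 ^ (blockHeight 2 B χ.1 + 1) ≤ a χ := by
  have := Fintype.ofFinite (Subgroup.center H)
  obtain ⟨w, h1, h2, h3⟩ := h.exists_mm_major hind hd hχ hχ
  have h4 : mz 2 b χ.1 χ.1 ⟨z, h.mem_center⟩ / 2 ^ blockHeight 2 B χ.1 = w := by
    rw [mz_eq (irrC χ) (irrC χ), hd, h2, Nat.cast_ofNat, mul_div_cancel_left₀ _ (by simp)]
  refine h.gn.pow_le (M := M) _ (isGen_mz hind.1 (irrG χ) (irrG χ)) (fun u hu => ⟨?_, ?_⟩)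
    (h4 ▸ h1) (h4 ▸ not_not.1 (mt h3.1 h0)) _ (ha.sum_mz χ)
  · rw [mz_eq (irrC χ) (irrC χ)]
    exact mul_ne_zero (by simp)
      ((h.of_zpowers_eq (mem_gens.1 hu)).mm_self_ne_zero_of_major hind hd hχ)
  · simp [mz_self]

theorem IsSub.compl_eq (h : IsSub 2 H z) (hind : IsInducedBlock M H b B) (hχ : χ ∈ B)
    [DecidablePred (· ∈ B)] [DecidableEq (IrrCharacter G)] (c : ℝ) :
    ∑ ψ ∈ (Finset.univ.filter (· ∈ B)).erase χ, ‖c * mm 2 z b χ ψ‖ ^ 2 +
      (c - c * ‖mm 2 z b χ χ‖) ^ 2 = c * (c - c * ‖mm 2 z b χ χ‖) := by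
  have h1 := h.sum_norm_mm_sq (IsPBlock.isBlockUnion hind.2.1) (IsPBlock.isBlockUnion hind.1)
    (subset_corr hind) χ
  rw [← Finset.add_sum_erase _ _ (by simpa using hχ : χ ∈ _)] at h1
  simp only [norm_mul, mul_pow, ← Finset.mul_sum, Complex.norm_real, Real.norm_eq_abs, sq_abs]
  linear_combination c ^ 2 * h1

theorem Av.card_le_compl (ha : Av z b a) (h : IsSub 2 H z) (hind : IsInducedBlock M H b B)
    (hd : blockDefect 2 b = blockDefect 2 B) (hχ : χ ∈ B) (h0 : blockHeight 2 B χ.1 = 0)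
    (h1 : blockDefect 2 b ≠ 0) :
    (Nat.card B : ℤ) ≤ 2 ^ blockDefect 2 b * (2 ^ blockDefect 2 b - a χ) := by
  classical
  have := Fintype.ofFinite (Subgroup.center H)
  have h2 := Finset.sum_le_sum fun ψ (hψ : ψ ∈ (Finset.univ.filter (· ∈ B)).erase χ) =>
    IsGeneralizedCharacter.card_le_sum_norm_sq (isGen_mz (p := 2) hind.1 (irrG χ) (irrG ψ)) (gens z)
      pow_mem_gens fun u hu => by
        rw [mz_eq (irrC χ) (irrC ψ)]
        exact mul_ne_zero (by simp) ((h.of_zpowers_eq (mem_gens.1 hu)).mm_ne_zero_of_major hind hd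
          hχ h0 (by simpa using Finset.mem_of_mem_erase hψ))
  have h3 := IsGeneralizedCharacter.card_le_sum_norm_sq (IsGeneralizedCharacter.sub
    (IsGeneralizedCharacter.intCast_smul isGeneralizedCharacter_one (2 ^ blockDefect 2 b))
    (isGen_mz (p := 2) hind.1 (irrG χ) (irrG χ))) (gens z) pow_mem_gens fun u hu h3 => by
      refine ((h.of_zpowers_eq (mem_gens.1 hu)).red_mm_ne_zero_iff hind χ χ).2
        ⟨⟨hχ, h0⟩, hχ, h0⟩ ?_
      rw [← mz_eq (irrC χ) (irrC χ), ← sub_eq_zero.1 h3]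
      simp [red_pow (ofNat_mem (O M) 2), h1, show red M 2 = 0 from red_p]
  have h4 := add_le_add h2 h3
  rw [Finset.sum_comm, ← Finset.sum_add_distrib, Finset.sum_congr rfl fun u hu =>
    Eq.trans ?_ ((h.of_zpowers_eq (mem_gens.1 hu)).compl_eq hind hχ (2 ^ blockDefect 2 b)),
    ← Finset.mul_sum, Finset.sum_sub_distrib, ← Finset.mul_sum, ha χ, Finset.sum_const,
    Finset.sum_const, nsmul_eq_mul, nsmul_eq_mul, ← mul_sub, mul_left_comm, ← add_one_mul,
    ← Nat.cast_add_one, Finset.card_erase_add_one (by simpa using hχ), ← card_eq_filter,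
    mul_comm] at h4
  · exact_mod_cast le_of_mul_le_mul_left h4 (by exact_mod_cast h.gens_pos)
  congr 1
  · simp [mz_eq (irrC χ) (irrC _)]
  · simp only [Pi.sub_apply, Pi.smul_apply, smul_eq_mul, mul_one, mz_self]
    norm_cast
    simp

theorem Av.four_le_compl (ha : Av z b a) (h : IsSub 2 H z) (hind : IsInducedBlock M H b B)
    (hd : blockDefect 2 b = blockDefect 2 B) (hχ : χ ∈ B) (h0 : blockHeight 2 B χ.1 ≠ 0) :
    4 ≤ 2 ^ blockDefect 2 b - a χ := by
  classical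
  have := Fintype.ofFinite (Subgroup.center H)
  obtain ⟨w, h1, h2, h3⟩ := h.exists_mm_major hind hd hχ hχ
  obtain ⟨i, hi⟩ := Nat.exists_eq_succ_of_ne_zero h0
  obtain ⟨j, hj⟩ := Nat.exists_eq_add_of_le (hd ▸ height_add_two_le hind.2.1 hχ h0)
  obtain ⟨ψ, hψ, h5⟩ := exists_height_zero 2 (IsPBlock.nonempty hind.2.1)
  have h4 : (((2 ^ blockDefect 2 b : ℤ) : ℂ) • (fun _ => (1 : ℂ)) - mz 2 b χ.1 χ.1 : _ → ℂ)
      ⟨z, h.mem_center⟩ / 2 ^ 1 = 2 * 2 ^ (i + 1 + j) - 2 ^ i * w := by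
    rw [Pi.sub_apply, mz_eq (irrC χ) (irrC χ), hd, h2, ← hd, hj, hi]
    simp
    ring
  have h2O := ofNat_mem (O M) 2
  have h6 := mul_mem h2O (pow_mem h2O (i + 1 + j))
  have h7 := mul_mem (pow_mem h2O i) h1
  refine h.gn.pow_le (M := M) 1 (IsGeneralizedCharacter.sub (IsGeneralizedCharacter.intCast_smul
    isGeneralizedCharacter_one (2 ^ blockDefect 2 b)) (isGen_mz hind.1 (irrG χ) (irrG χ)))
    (fun u hu => ?_) (h4 ▸ sub_mem h6 h7) (by
      rw [h4, red_sub h6 h7, red_mul h2O (pow_mem h2O _), red_mul (pow_mem h2O _) h1,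
        not_not.1 (mt h3.1 h0), show red M 2 = 0 from red_p]
      simp) _ (by simp [ha.sum_mz, mul_sub])
  have hu := h.of_zpowers_eq (mem_gens.1 hu)
  have h8 : (0 : ℝ) < 2 ^ blockDefect 2 b - 2 ^ blockDefect 2 b * ‖mm 2 (u : H) b χ χ‖ := by
    refine pos_of_mul_pos_left ?_ (by positivity : (0 : ℝ) ≤ 2 ^ blockDefect 2 b)
    rw [mul_comm, ← hu.compl_eq hind hχ]
    refine add_pos_of_pos_of_nonneg (Finset.sum_pos' (fun _ _ => sq_nonneg _) ⟨ψ, by
      simpa [hψ] using fun h : ψ = χ => h0 (h ▸ h5), pow_pos (norm_pos_iff.2 (mul_ne_zero (by simp) ?_)) _⟩)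
      (sq_nonneg _)
    rw [← conj_mm, _root_.map_ne_zero]
    exact hu.mm_ne_zero_of_major hind hd hψ h5 hχ
  simp only [Pi.sub_apply, Pi.smul_apply, smul_eq_mul, mul_one, mz_self]
  norm_cast
  exact ⟨by simpa using h8.ne', by simpa using (abs_of_pos h8).symm⟩

end Cfsg.Agent.BMod
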